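import Cfsg.Agent.Lib.ToddCox.Glue
set_option autoImplicit false
set_option maxRecDepth 100000
namespace Cfsg.Agent.Lib.ToddCox.L37C4
def E_0 : ℕ := 0x50800001800001820000050000060400001400001410000060000060c00001800001830000060000030800001000001020000030000040400000c00000c10000040000010800000800000820000010000020400000400000410000020000000800000000000020000000000000400000000000010000000000000000000000000000000000000050000001800001800000050000040c00001400001430000040000030000001000001000000030000020c00000c00000c30000020000010000000800000800000010000000c0000040000043000000
end Cfsg.Agent.Lib.ToddCox.L37C4
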